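import Groth.Agent.SGA3x.K6.TwConstClopen
import Groth.Agent.SGA3x.K10.TwFin
import Groth.Agent.S2787
import Groth.Agent.S0081
import Mathlib.AlgebraicGeometry.Morphisms.FlatMono

/-!
# Quasi-isotrivial twisted constant schemes over irreducible geometrically unibranch schemes
-/

set_option autoImplicit false
set_option backward.isDefEq.respectTransparency false
open CategoryTheory AlgebraicGeometry CategoryTheory.Limits TopologicalSpace
universe u

namespace K983.TwIrr

open Groth.Agent.S2787 K6 TwC K6.Const

/-- A quasi-isotrivial twisted constant scheme is separated. -/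
theorem isSeparated_of_isTwConst {S : Scheme.{u}} (X : Over S) (hX : IsTwConst Topology.etale X) :
    IsSeparated X.hom := by
  have hdesc := Groth.Agent.S0081.result.{u}
  refine Groth.Agent.Sga3B.RepDescent.of_etale_cover (P := @IsSeparated.{u}) X.hom fun s => ?_
  obtain ⟨S', f, hf, hs, M, ⟨e⟩⟩ := hX s
  refine ⟨S', f, hf, hs, ?_⟩
  have h1 : pullback.snd X.hom f = e.hom.left ≫ (const S' M).hom := (Over.w e.hom).symm
  have h2 : IsSeparated (const S' M).hom := K10.TwFin.isSeparated_const M
  rw [h1]
  infer_instance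

/-- Two sections of a separated unramified morphism over a preconnected base which agree somewhere are equal. -/
theorem section_unique {X S T : Scheme.{u}} [PreconnectedSpace S] (f : X ⟶ S) [IsSeparated f] [FormallyUnramified f]
    [LocallyOfFiniteType f] (a : T ⟶ S) [Nonempty T] (σ₁ σ₂ : S ⟶ X) (h₁ : σ₁ ≫ f = 𝟙 S) (h₂ : σ₂ ≫ f = 𝟙 S)
    (h : a ≫ σ₁ = a ≫ σ₂) : σ₁ = σ₂ := by
  let g : S ⟶ pullback f f := pullback.lift σ₁ σ₂ (h₁.trans h₂.symm)
  let i : pullback (pullback.diagonal f) g ⟶ S := pullback.snd _ _
  have hi1 : IsOpenImmersion i := inferInstance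
  have hi2 : IsClosedImmersion i := inferInstance
  have hcl : IsClopen (Set.range i) := ⟨i.isClosedEmbedding.isClosed_range, i.isOpenEmbedding.isOpen_range⟩
  have ha : ∃ b : T ⟶ pullback (pullback.diagonal f) g, b ≫ i = a := by
    refine ⟨pullback.lift (a ≫ σ₁) a ?_, pullback.lift_snd _ _ _⟩
    apply pullback.hom_ext
    · simp [g]
    · simp [g, h]
  have hsurj : Surjective i := by
    rw [surjective_iff, ← Set.range_eq_univ]
    refine hcl.eq_univ ?_
    obtain ⟨b, hb⟩ := ha
    obtain ⟨t⟩ : Nonempty T := inferInstance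
    exact ⟨i (b t), ⟨b t, rfl⟩⟩
  have hiso : IsIso i := isIso_iff_isOpenImmersion_and_surjective _ |>.2 ⟨hi1, hsurj⟩
  have h3 : pullback.fst (pullback.diagonal f) g ≫ pullback.diagonal f = i ≫ g := pullback.condition
  have h4 : i ≫ σ₁ = pullback.fst (pullback.diagonal f) g := by
    have := congr($h3 ≫ pullback.fst f f)
    simpa [g] using this.symm
  have h5 : i ≫ σ₂ = pullback.fst (pullback.diagonal f) g := by
    have := congr($h3 ≫ pullback.snd f f)
    simpa [g] using this.symm
  exact (cancel_epi i).mp (h4.trans h5.symm)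

variable {S : Scheme.{u}} [IrreducibleSpace S] (hS : ∀ s : S, CAlg2.IsGeomUnibranch (S.presheaf.stalk s))

include hS in
theorem isClopen_closure {X : Scheme.{u}} (f : X ⟶ S) [Etale f] (l : X) (hl : f l = genericPoint S) :
    IsClopen (closure ({l} : Set X)) :=
  ⟨isClosed_closure, ((Groth.Agent.S2787.result f hS).2 _ ((isIrreducibleComponent f hS _).2 ⟨l, hl, rfl⟩)).1⟩

include hS in
theorem existsUnique_generic {X : Scheme.{u}} (f : X ⟶ S) [Etale f] (x : X) :
    ∃! l : X, f l = genericPoint S ∧ x ∈ closure ({l} : Set X) := by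
  obtain ⟨l, hl, hfl⟩ := exists_lift f x
  refine ⟨l, ⟨hfl, specializes_iff_mem_closure.mp hl⟩, ?_⟩
  rintro l' ⟨h1, h2⟩
  exact unique_lift f hS x l' l (specializes_iff_mem_closure.mpr h2) hl h1 hfl

theorem map_genericPoint {X : Scheme.{u}} [IrreducibleSpace X] (f : X ⟶ S) [Etale f] :
    f (genericPoint X) = genericPoint S := by
  obtain ⟨l, hl, hfl⟩ := exists_lift f (genericPoint X)
  have : l = genericPoint X := (hl.antisymm (genericPoint_specializes l)).eq
  rw [← this, hfl]

/-- A point with values in a field factors through the spectrum of the residue field. -/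
theorem exists_fac {X : Scheme.{u}} {K : Type u} [Field K] (a : Spec (CommRingCat.of K) ⟶ X) (x : X)
    (hx : a (IsLocalRing.closedPoint K) = x) : ∃ b : X.residueField x ⟶ CommRingCat.of K,
      Spec.map b ≫ X.fromSpecResidueField x = a := by
  subst hx
  exact ⟨_, Scheme.descResidueField_stalkClosedPointTo_fromSpecResidueField K X a⟩

/-- Let `f : U ⟶ S` and `τ` a point of `U` with values in `κ(s)` over `s`.  Then every point of `U` with values in a
field having the same image as `τ` factors through `τ`. -/
theorem exists_fac_of_section {U S : Scheme.{u}} (f : U ⟶ S) (s : S) (τ : Spec (S.residueField s) ⟶ U)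
    (hτ : τ ≫ f = S.fromSpecResidueField s) {K : Type u} [Field K] (a : Spec (CommRingCat.of K) ⟶ U)
    (ha : a (IsLocalRing.closedPoint K) = τ (IsLocalRing.closedPoint (S.residueField s))) :
    ∃ c : Spec (CommRingCat.of K) ⟶ Spec (S.residueField s), a = c ≫ τ := by
  let l := τ (IsLocalRing.closedPoint (S.residueField s))
  obtain ⟨b, hb⟩ := exists_fac (K := U.residueField l) (U.fromSpecResidueField l ≫ f) s (by
    rw [Scheme.Hom.comp_apply]
    refine (congrArg f (U.fromSpecResidueField_apply l _)).trans ?_
    exact (congr(($hτ) (IsLocalRing.closedPoint (S.residueField s)))).trans (S.fromSpecResidueField_apply s _))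
  obtain ⟨t, ht⟩ := exists_fac (K := S.residueField s) τ l rfl
  obtain ⟨a', ha'⟩ := exists_fac a l ha
  have h1 : b ≫ t = 𝟙 _ := by
    apply Spec.map_injective
    rw [Spec.map_comp, Spec.map_id, ← cancel_mono (S.fromSpecResidueField s), Category.assoc, hb,
      ← Category.assoc, ht, hτ]
    exact (Category.id_comp _).symm
  have h2 : Function.Bijective t.hom := by
    refine ⟨RingHom.injective _, fun y => ⟨b.hom y, ?_⟩⟩
    exact congr($h1 y)
  have h3 : IsIso t := (ConcreteCategory.isIso_iff_bijective t).mpr h2
  refine ⟨Spec.map (inv t ≫ a'), ?_⟩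
  rw [← ht, ← ha', ← Category.assoc, ← Spec.map_comp]
  simp

omit [IrreducibleSpace S] in
/-- A finite etale cover of a connected scheme having exactly one point over some point `s`, which moreover is rational,
is an isomorphism. -/
theorem isIso_of_point [PreconnectedSpace S] {U : Scheme.{u}} (f : U ⟶ S) [IsFinite f] [Etale f] (s : S)
    (τ : Spec (S.residueField s) ⟶ U) (hτ : τ ≫ f = S.fromSpecResidueField s)
    (huniq : ∀ u : U, f u = s → u = τ (IsLocalRing.closedPoint (S.residueField s))) : IsIso f := by
  have hpt : ∀ w : ↥(pullback f f), (pullback.fst f f ≫ f) w = s → w ∈ Set.range (pullback.diagonal f) := by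
    intro w hw
    let q := (pullback f f).fromSpecResidueField w
    have h1 : (q ≫ pullback.fst f f) (IsLocalRing.closedPoint _) = τ (IsLocalRing.closedPoint (S.residueField s)) := by
      apply huniq
      rw [← Scheme.Hom.comp_apply, Category.assoc, Scheme.Hom.comp_apply, Scheme.fromSpecResidueField_apply, hw]
    have h2 : (q ≫ pullback.snd f f) (IsLocalRing.closedPoint _) = τ (IsLocalRing.closedPoint (S.residueField s)) := by
      apply huniq
      rw [← Scheme.Hom.comp_apply, Category.assoc, ← pullback.condition, Scheme.Hom.comp_apply,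
        Scheme.fromSpecResidueField_apply, hw]
    obtain ⟨c₁, hc₁⟩ := exists_fac_of_section f _ τ hτ (K := (pullback f f).residueField w) (q ≫ pullback.fst f f) h1
    obtain ⟨c₂, hc₂⟩ := exists_fac_of_section f _ τ hτ (K := (pullback f f).residueField w) (q ≫ pullback.snd f f) h2
    have h3 : c₁ = c₂ := by
      rw [← cancel_mono (S.fromSpecResidueField s), ← hτ, ← Category.assoc, ← hc₁,
        ← Category.assoc, ← hc₂, Category.assoc, Category.assoc, pullback.condition]
    have h4 : q = (q ≫ pullback.fst f f) ≫ pullback.diagonal f := by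
      apply pullback.hom_ext
      · rw [Category.assoc, pullback.diagonal_fst, Category.comp_id]
      · rw [Category.assoc, pullback.diagonal_snd, Category.comp_id, hc₁, hc₂, h3]
    refine ⟨(q ≫ pullback.fst f f) (IsLocalRing.closedPoint _), ?_⟩
    rw [← Scheme.Hom.comp_apply, ← h4, Scheme.fromSpecResidueField_apply]
  have hΔ : Surjective (pullback.diagonal f) := by
    rw [surjective_iff, ← Set.range_eq_univ]
    have hcl : IsClopen (Set.range (pullback.diagonal f)) :=
      ⟨(pullback.diagonal f).isClosedEmbedding.isClosed_range, (pullback.diagonal f).isOpenEmbedding.isOpen_range⟩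
    have him : IsClopen ((pullback.fst f f ≫ f) '' (Set.range (pullback.diagonal f))ᶜ) :=
      ⟨(pullback.fst f f ≫ f).isClosedMap _ hcl.compl.1, (pullback.fst f f ≫ f).isOpenMap _ hcl.compl.2⟩
    rcases isClopen_iff.mp him with h | h
    · rw [Set.image_eq_empty, Set.compl_empty_iff] at h
      exact h
    · exfalso
      have hs : s ∈ (pullback.fst f f ≫ f) '' (Set.range (pullback.diagonal f))ᶜ := by rw [h]; trivial
      obtain ⟨w, hw, hws⟩ := hs
      exact hw (hpt w hws)
  have hΔ' : IsIso (pullback.diagonal f) := isIso_iff_isOpenImmersion_and_surjective _ |>.2 ⟨inferInstance, hΔ⟩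
  have hmono : Mono f := pullback.isIso_diagonal_iff f |>.mp hΔ'
  have hop : IsOpenImmersion f := IsOpenImmersion.of_flat_of_mono f
  have hsurj : Surjective f := by
    rw [surjective_iff, ← Set.range_eq_univ]
    have hcl : IsClopen (Set.range f) := ⟨f.isClosedMap.isClosed_range, f.isOpenEmbedding.isOpen_range⟩
    refine hcl.eq_univ ⟨s, τ (IsLocalRing.closedPoint (S.residueField s)), ?_⟩
    rw [← Scheme.Hom.comp_apply, hτ, Scheme.fromSpecResidueField_apply]
  exact isIso_iff_isOpenImmersion_and_surjective _ |>.2 ⟨hop, hsurj⟩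

/-- A finite etale irreducible cover of an irreducible scheme having a rational point over the generic point is an
isomorphism. -/
theorem isIso_of_generic {U : Scheme.{u}} [IrreducibleSpace U]
    (f : U ⟶ S) [IsFinite f] [Etale f]
    (τ : Spec (S.residueField (genericPoint S)) ⟶ U) (hτ : τ ≫ f = S.fromSpecResidueField (genericPoint S)) :
    IsIso f := by
  have hηU : f (genericPoint U) = genericPoint S := map_genericPoint f
  have huniq : ∀ u : U, f u = genericPoint S → u = genericPoint U := fun u hu =>
    (eq_of_specializes_over f (genericPoint_specializes u) hηU hu).symm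
  have hτpt : τ (IsLocalRing.closedPoint (S.residueField (genericPoint S))) = genericPoint U := by
    apply huniq
    rw [← Scheme.Hom.comp_apply, hτ, Scheme.fromSpecResidueField_apply]
  exact isIso_of_point f (genericPoint S) τ hτ fun u hu => (huniq u hu).trans hτpt.symm

include hS in
/-- Irreducible charts of a quasi-isotrivial twisted constant scheme. -/
theorem exists_chart (X : Over S) (hX : IsTwConst Topology.etale X) (s : S) :
    ∃ (V : Scheme.{u}) (v : V ⟶ S) (_ : Etale v) (_ : IrreducibleSpace V) (M : Type u),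
      s ∈ Set.range v ∧ Nonempty (Red.bc v X ≅ const V M) := by
  obtain ⟨S', f, hf, ⟨s', rfl⟩, M, ⟨e⟩⟩ := hX s
  obtain ⟨z, hz, hfz⟩ := exists_lift f s'
  let C : S'.Opens := ⟨closure {z}, (isClopen_closure hS f z hfz).isOpen⟩
  have hC : IrreducibleSpace (C : Scheme.{u}) :=
    isIrreducible_iff_irreducibleSpace.mp isIrreducible_singleton.closure
  exact ⟨C, C.ι ≫ f, inferInstance, hC, M, ⟨⟨s', specializes_iff_mem_closure.mp hz⟩, rfl⟩,
    ⟨(Over.pullbackComp C.ι f).app X ≪≫ (Over.pullback C.ι).mapIso e ≪≫ bcConst M C.ι⟩⟩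

include hS in
/-- The closure of a point of the generic fibre of a quasi-isotrivial twisted constant scheme is finite over the base. -/
theorem isFinite_closure (X : Over S) (hX : IsTwConst Topology.etale X) (U : X.left.Opens) (l : X.left)
    (hl : X.hom l = genericPoint S) (hU : (U : Set X.left) = closure {l}) : IsFinite (U.ι ≫ X.hom) := by
  have het := TwConstClopen.etale_of_isTwConst X hX
  have hcl : IsClosedImmersion U.ι := by
    refine IsClosedImmersion.of_isPreimmersion U.ι ?_
    rw [Scheme.Opens.range_ι, hU]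
    exact isClosed_closure
  have hdesc := Groth.Agent.S0084.result.{u}
  refine Groth.Agent.Sga3B.RepDescent.of_etale_cover (P := @IsFinite.{u}) (U.ι ≫ X.hom) fun s => ?_
  obtain ⟨V, v, hv, hV, M, hs, ⟨e⟩⟩ := exists_chart hS X hX s
  refine ⟨V, v, hv, hs, ?_⟩
  obtain ⟨z', q, h1, h2, h3⟩ := TwConstFin.exists_bc_of_iso v e U.ι
  have h4 : IsClosedImmersion z' := MorphismProperty.of_isPullback (P := @IsClosedImmersion) h2 inferInstance
  have h5 : IsOpenImmersion z' := MorphismProperty.of_isPullback (P := @IsOpenImmersion) h2 inferInstance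
  have h6 : IsCompact ((z' ≫ Sigma.desc fun _ : M => 𝟙 V).base ⁻¹' {genericPoint V}) := by
    rw [h1]
    refine FibreCompact.isCompact_fibre_of_isPullback (IsPullback.of_hasPullback (U.ι ≫ X.hom) v) (genericPoint V) ?_
    rw [map_genericPoint v]
    refine Set.Finite.isCompact ((Set.subsingleton_of_forall_eq (⟨l, by
      change l ∈ (U : Set X.left); rw [hU]; exact subset_closure rfl⟩ : (U : Scheme.{u})) ?_).finite)
    rintro ⟨y, hy⟩ hy'
    have h3 : X.hom y = genericPoint S := hy'
    have h4 : l ⤳ y := by
      rw [specializes_iff_mem_closure, ← hU]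
      exact hy
    exact Subtype.ext (eq_of_specializes_over X.hom h4 hl h3).symm
  have h7 := TwConstClopen.isFinite_of_isClopen z' _ h6
  rw [h1] at h7
  exact h7

include hS in
/-- The main statement over irreducible geometrically unibranch schemes. -/
theorem exists_opens (X : Over S) (hX : IsTwConst Topology.etale X) (l : X.left)
    (hl : X.hom l = genericPoint S) : ∃ U : X.left.Opens, (U : Set X.left) = closure ({l} : Set X.left) ∧
      IsClosed (U : Set X.left) ∧ IsFinite (U.ι ≫ X.hom) ∧ Etale (U.ι ≫ X.hom) ∧ Surjective (U.ι ≫ X.hom) := by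
  have het := TwConstClopen.etale_of_isTwConst X hX
  let U : X.left.Opens := ⟨closure {l}, (isClopen_closure hS X.hom l hl).isOpen⟩
  have hfin := isFinite_closure hS X hX U l hl rfl
  refine ⟨U, rfl, isClosed_closure, hfin, inferInstance, ⟨fun s => ?_⟩⟩
  have hcl : IsClosed (Set.range (U.ι ≫ X.hom)) := (U.ι ≫ X.hom).isClosedMap.isClosed_range
  exact hcl.closure_subset_iff.mpr (Set.singleton_subset_iff.mpr ⟨⟨l, subset_closure rfl⟩, hl⟩)
      (specializes_iff_mem_closure.mp (genericPoint_specializes s))

include hS in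
/-- Extension of sections from the generic point. -/
theorem exists_section (X : Over S) (hX : IsTwConst Topology.etale X)
    (τ : Spec (S.residueField (genericPoint S)) ⟶ X.left) (hτ : τ ≫ X.hom = S.fromSpecResidueField (genericPoint S)) :
    ∃ σ : S ⟶ X.left, σ ≫ X.hom = 𝟙 S ∧ S.fromSpecResidueField (genericPoint S) ≫ σ = τ := by
  let l := τ (IsLocalRing.closedPoint (S.residueField (genericPoint S)))
  have hl : X.hom l = genericPoint S :=
    (congr(($hτ) (IsLocalRing.closedPoint (S.residueField (genericPoint S))))).trans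
      (S.fromSpecResidueField_apply _ _)
  obtain ⟨U, hU, hUcl, hfin, het, -⟩ := exists_opens hS X hX l hl
  have hτU : Set.range τ ⊆ Set.range U.ι := by
    rw [Scheme.Opens.range_ι, hU]
    rintro _ ⟨x, rfl⟩
    have : x = IsLocalRing.closedPoint (S.residueField (genericPoint S)) := Subsingleton.elim _ _
    rw [this]
    exact subset_closure rfl
  have hirr : IrreducibleSpace (U : Scheme.{u}) := by
    refine isIrreducible_iff_irreducibleSpace.mp ?_
    change IsIrreducible (U : Set X.left)
    rw [hU]
    exact isIrreducible_singleton.closure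
  let τ' : Spec (S.residueField (genericPoint S)) ⟶ U := IsOpenImmersion.lift U.ι τ hτU
  have hτ' : τ' ≫ U.ι = τ := IsOpenImmersion.lift_fac _ _ _
  have hτ'' : τ' ≫ U.ι ≫ X.hom = S.fromSpecResidueField (genericPoint S) := by
    rw [← Category.assoc, hτ', hτ]
  have hiso : IsIso (U.ι ≫ X.hom) := isIso_of_generic (U.ι ≫ X.hom) τ' hτ''
  refine ⟨inv (U.ι ≫ X.hom) ≫ U.ι, by simp, ?_⟩
  rw [← hτ'', Category.assoc, IsIso.hom_inv_id_assoc, hτ']

end K983.TwIrr
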