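import Groth.Agent.TwC.K983.TwIrr
import Groth.Agent.UnramA.NormalUnibranch
import Mathlib.AlgebraicGeometry.ValuativeCriterion
import Mathlib.Algebra.GCDMonoid.IntegrallyClosed

/-!
# Base change of twisted constant schemes and the valuative criterion
-/

set_option autoImplicit false
set_option backward.isDefEq.respectTransparency false
open CategoryTheory AlgebraicGeometry CategoryTheory.Limits TopologicalSpace
universe u

namespace K983.TwVal

open K6 TwC K6.Const

/-- Base change along equal morphisms. -/
noncomputable def bcCongr {S T : Scheme.{u}} {f g : T ⟶ S} (h : f = g) (X : Over S) : Red.bc f X ≅ Red.bc g X :=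
  eqToIso (by rw [h])

/-- Quasi-isotrivial twisted constant schemes are stable under base change. -/
theorem isTwConst_bc {S T : Scheme.{u}} (g : T ⟶ S) {X : Over S} (hX : IsTwConst Topology.etale X) :
    IsTwConst Topology.etale (Red.bc g X) := by
  intro t
  obtain ⟨S', f, hf, ⟨s', hs'⟩, M, ⟨e⟩⟩ := hX (g t)
  obtain ⟨t', h1, h2⟩ := Scheme.Pullback.exists_preimage_pullback (f := f) (g := g) s' t hs'
  refine ⟨pullback f g, pullback.snd f g, inferInstance, ⟨t', h2⟩, M, ⟨?_⟩⟩
  exact (Over.pullbackComp (pullback.snd f g) g).symm.app X ≪≫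
    bcCongr pullback.condition.symm X ≪≫ (Over.pullbackComp (pullback.fst f g) f).app X ≪≫
      (Over.pullback (pullback.fst f g)).mapIso e ≪≫ bcConst M (pullback.fst f g)

/-- The local rings of the spectrum of an integrally closed domain are geometrically unibranch. -/
theorem isGeomUnibranch_spec (R : Type u) [CommRing R] [IsDomain R] [IsIntegrallyClosed R]
    (s : ↥(Spec (CommRingCat.of R))) : CAlg2.IsGeomUnibranch ((Spec (CommRingCat.of R)).presheaf.stalk s) := by
  have h1 : IsIntegrallyClosed ((Spec (CommRingCat.of R)).presheaf.stalk s) := by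
    let p : PrimeSpectrum R := s
    let _ : Algebra R ((Spec (CommRingCat.of R)).presheaf.stalk s) := StructureSheaf.stalkAlgebra R p
    have h2 : IsLocalization.AtPrime ((Spec (CommRingCat.of R)).presheaf.stalk s) p.asIdeal :=
      StructureSheaf.IsLocalization.to_stalk R p
    exact isIntegrallyClosed_of_isLocalization (R := R) _ p.asIdeal.primeCompl
      (Ideal.primeCompl_le_nonZeroDivisors _)
  exact Groth.Agent.UnramA.NormalUnibranch.isGeomUnibranch_of_isIntegrallyClosed _

/-- A monomorphism from the spectrum of a field is the spectrum of the residue field of its image. -/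
theorem exists_iso_fac {S : Scheme.{u}} (K : Type u) [Field K] (q : Spec (CommRingCat.of K) ⟶ S) [Mono q] {s : S}
    (hs : q (IsLocalRing.closedPoint K) = s) :
    ∃ e : Spec (CommRingCat.of K) ≅ Spec (S.residueField s), e.hom ≫ S.fromSpecResidueField s = q := by
  obtain ⟨b, hb⟩ := TwIrr.exists_fac q _ hs
  have hm : Mono (Spec.map b ≫ S.fromSpecResidueField s) := by rw [hb]; infer_instance
  have h1 : Mono (Spec.map b) := mono_of_mono (Spec.map b) (S.fromSpecResidueField s)
  have h2 : Flat (Spec.map b) := by
    rw [Flat.SpecMap_iff]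
    algebraize [b.hom]
    change Module.Flat _ _
    infer_instance
  have h3 : Surjective (Spec.map b) := ⟨fun x => ⟨IsLocalRing.closedPoint K, Subsingleton.elim _ _⟩⟩
  have := Flat.isIso_of_surjective_of_mono (Spec.map b)
  exact ⟨asIso (Spec.map b), hb⟩

/-- The spectrum of the fraction field is the spectrum of the residue field at the generic point. -/
theorem exists_iso_generic (R K : Type u) [CommRing R] [IsDomain R] [Field K] [Algebra R K] [IsFractionRing R K] :
    ∃ e : Spec (CommRingCat.of K) ≅ Spec ((Spec (CommRingCat.of R)).residueField (genericPoint (Spec (CommRingCat.of R)))),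
      e.hom ≫ (Spec (CommRingCat.of R)).fromSpecResidueField (genericPoint (Spec (CommRingCat.of R))) =
        Spec.map (CommRingCat.ofHom (algebraMap R K)) := by
  have hpt : Spec.map (CommRingCat.ofHom (algebraMap R K)) (IsLocalRing.closedPoint K) =
      genericPoint (Spec (CommRingCat.of R)) := by
    rw [genericPoint_eq_bot_of_affine]
    apply PrimeSpectrum.ext
    change (IsLocalRing.maximalIdeal K).comap (algebraMap R K) = ⊥
    rw [IsLocalRing.maximalIdeal_eq_bot]
    exact (RingHom.injective_iff_ker_eq_bot _).mp (IsFractionRing.injective R K)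
  have : Mono (Spec.map (CommRingCat.ofHom (algebraMap R K))) := by
    have : Epi (CommRingCat.ofHom (algebraMap R K)) := by
      refine CommRingCat.epi_iff_epi.mpr ?_
      infer_instance
    change Mono (Scheme.Spec.map (CommRingCat.ofHom (algebraMap R K)).op)
    infer_instance
  exact exists_iso_fac K _ hpt

/-- The existence part of the valuative criterion. -/
theorem existence {S : Scheme.{u}} (X : Over S) (hX : IsTwConst Topology.etale X) :
    ValuativeCriterion.Existence X.hom := by
  intro sq
  have : IsIntegrallyClosed sq.R := by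
    classical
    let := IsBezout.toGCDDomain sq.R
    infer_instance
  obtain ⟨e, he⟩ := exists_iso_generic sq.R sq.K
  let a : Spec (CommRingCat.of sq.K) ⟶ (Red.bc sq.i₂ X).left :=
    pullback.lift sq.i₁ (Spec.map (CommRingCat.ofHom (algebraMap sq.R sq.K))) sq.commSq.w
  obtain ⟨σ, hσ1, hσ2⟩ := TwIrr.exists_section (isGeomUnibranch_spec sq.R) (Red.bc sq.i₂ X) (isTwConst_bc sq.i₂ hX)
    (e.inv ≫ a) (by
      have : a ≫ (Red.bc sq.i₂ X).hom = _ := pullback.lift_snd _ _ _
      rw [Category.assoc, this, ← he, Iso.inv_hom_id_assoc])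
  refine ⟨⟨σ ≫ pullback.fst X.hom sq.i₂, ?_, ?_⟩⟩
  · rw [← he, Category.assoc, reassoc_of% hσ2, Iso.hom_inv_id_assoc]
    exact pullback.lift_fst _ _ _
  · rw [Category.assoc, pullback.condition]
    have : σ ≫ pullback.snd X.hom sq.i₂ = 𝟙 _ := hσ1
    rw [reassoc_of% this]

end K983.TwVal
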