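import Groth.Agent.TwC.K983.TwVal
import Groth.Agent.Hensel.LocalSplit

/-!
# Quasi-isotrivial twisted constant schemes over henselian local rings
-/

set_option autoImplicit false
set_option backward.isDefEq.respectTransparency false
open CategoryTheory AlgebraicGeometry CategoryTheory.Limits TopologicalSpace IsLocalRing
universe u

namespace K983.TwHens

open Groth.Agent K6 TwC K6.Const

/-- The spectrum of a local ring is connected. -/
theorem preconnectedSpace_spec (A : Type u) [CommRing A] [IsLocalRing A] :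
    PreconnectedSpace (Spec (CommRingCat.of A)) := by
  refine ⟨isPreconnected_of_forall (closedPoint A) fun y _ => ⟨closure {y}, Set.subset_univ _, ?_,
    subset_closure rfl, isPreconnected_singleton.closure⟩⟩
  exact specializes_iff_mem_closure.mp (IsLocalRing.specializes_closedPoint y)

/-- If the generizations of `x` form an affine open subscheme, `Spec O_{X,x} ⟶ X` is an open immersion. -/
theorem isOpenImmersion_fromSpecStalk {X : Scheme.{u}} (x : X) (U : X.Opens) (hU : IsAffineOpen U)
    (hx : ∀ y : X, y ∈ U ↔ y ⤳ x) : IsOpenImmersion (X.fromSpecStalk x) := by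
  have hxU : x ∈ U := (hx x).mpr specializes_rfl
  let := X.presheaf.algebra_section_stalk ⟨x, hxU⟩
  have hloc := hU.isLocalization_stalk ⟨x, hxU⟩
  have hunit : ∀ a ∈ (hU.primeIdealOf ⟨x, hxU⟩).asIdeal.primeCompl, IsUnit a := by
    intro a ha
    by_contra hna
    obtain ⟨m, hm, ham⟩ := exists_max_ideal_of_mem_nonunits hna
    apply ha
    let y : PrimeSpectrum Γ(X, U) := ⟨m, hm.isPrime⟩
    have h0 : hU.fromSpec y ∈ (U : Set X) := by rw [← hU.range_fromSpec]; exact ⟨y, rfl⟩
    have h1 : hU.fromSpec y ⤳ x := (hx _).mp h0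
    have h2 : hU.fromSpec (hU.primeIdealOf ⟨x, hxU⟩) = x := hU.fromSpec_primeIdealOf ⟨x, hxU⟩
    rw [← h2, hU.fromSpec.isOpenEmbedding.isInducing.specializes_iff] at h1
    exact ((PrimeSpectrum.le_iff_specializes _ _).mpr h1) ham
  have hbij : Function.Bijective (X.presheaf.germ U x hxU).hom :=
    (IsLocalization.atUnits Γ(X, U) (hU.primeIdealOf ⟨x, hxU⟩).asIdeal.primeCompl
      (S := X.presheaf.stalk x) hunit).bijective
  have hiso : IsIso (X.presheaf.germ U x hxU) := (ConcreteCategory.isIso_iff_bijective _).mpr hbij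
  rw [← hU.fromSpecStalk_eq_fromSpecStalk hxU]
  change IsOpenImmersion (Spec.map (X.presheaf.germ U x hxU) ≫ hU.fromSpec)
  infer_instance

/-- An étale scheme over a henselian local ring is, near a point of the closed fibre, finite and local. -/
theorem exists_local {R : Type u} [CommRing R] [HenselianLocalRing R] {V : Scheme.{u}}
    (f : V ⟶ Spec (CommRingCat.of R)) [Etale f] (v : V) (hv : f v = closedPoint R) :
    ∃ (R' : Type u) (_ : CommRing R') (_ : IsLocalRing R') (g : Spec (CommRingCat.of R') ⟶ V),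
      IsFinite (g ≫ f) ∧ Etale (g ≫ f) ∧ g (closedPoint R') = v := by
  obtain ⟨W, hW, hvW, -⟩ := exists_isAffineOpen_mem_and_subset (U := ⊤) (x := v) trivial
  obtain ⟨φ, hφ⟩ := Spec.map_surjective (hW.fromSpec ≫ f)
  have hφe : Etale (Spec.map φ) := by rw [hφ]; infer_instance
  have hφe' : φ.hom.Etale := by
    rwa [HasRingHomProperty.Spec_iff (P := @Etale.{u})] at hφe
  let B := Γ(V, W)
  let : Algebra R B := φ.hom.toAlgebra
  have : Algebra.Etale R B := hφe'
  let q := (hW.primeIdealOf ⟨v, hvW⟩).asIdeal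
  have hqv : hW.fromSpec (hW.primeIdealOf ⟨v, hvW⟩) = v := hW.fromSpec_primeIdealOf ⟨v, hvW⟩
  have hq : q.LiesOver (maximalIdeal R) := by
    refine ⟨?_⟩
    have h1 : (Spec.map φ) (hW.primeIdealOf ⟨v, hvW⟩) = closedPoint R := by
      rw [hφ, Scheme.Hom.comp_apply, hqv, hv]
    exact (congrArg PrimeSpectrum.asIdeal h1).symm
  obtain ⟨e, he, heq, hfin, huniq⟩ := Hensel.LocalSplit.exists_isIdempotentElem_of_quasiFiniteAt (R := R) q
  let R' := B ⧸ Ideal.span ({1 - e} : Set B)
  have hfin' : Module.Finite R R' := hfin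
  have het : Algebra.Etale B R' := by
    have := IsLocalization.Away.quotient_of_isIdempotentElem he
    exact Algebra.Etale.of_isLocalizationAway e
  have hmk : ∀ n : Ideal R', n.IsMaximal → n.comap (algebraMap B R') = q := by
    intro n hn
    have h1 : n.LiesOver (maximalIdeal R) := Hensel.LocalSplit.comap_eq_maximalIdeal n
    have h2 : (n.comap (algebraMap B R')).LiesOver (maximalIdeal R) := by
      refine ⟨?_⟩
      rw [Ideal.under_def, Ideal.comap_comap, ← IsScalarTower.algebraMap_eq]
      exact h1.over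
    refine huniq _ inferInstance h2 fun h3 => ?_
    have h4 : algebraMap B R' e = 1 := by
      have : (Ideal.Quotient.mk (Ideal.span ({1 - e} : Set B))) (1 - e) = 0 :=
        Ideal.Quotient.eq_zero_iff_mem.mpr (Ideal.mem_span_singleton_self _)
      rw [map_sub, map_one, sub_eq_zero] at this
      exact this.symm
    have h5 : algebraMap B R' e ∈ n := h3
    rw [h4] at h5
    exact hn.ne_top ((Ideal.eq_top_iff_one _).mpr h5)
  have hle : Ideal.span ({1 - e} : Set B) ≤ q := by
    rw [Ideal.span_singleton_le_iff_mem]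
    exact Hensel.LocalSplit.one_sub_mem_of_notMem he heq
  have hnt : Nontrivial R' := Ideal.Quotient.nontrivial_iff.mpr fun h =>
    Ideal.IsPrime.ne_top (hW.primeIdealOf ⟨v, hvW⟩).isPrime (top_le_iff.mp (h ▸ hle))
  have hloc : IsLocalRing R' := by
    obtain ⟨n, hn⟩ := Ideal.exists_maximal R'
    refine IsLocalRing.of_unique_max_ideal ⟨n, hn, fun n' hn' => ?_⟩
    exact Ideal.comap_injective_of_surjective (algebraMap B R') Ideal.Quotient.mk_surjective
      ((hmk n' hn').trans (hmk n hn).symm)
  refine ⟨R', inferInstance, hloc, Spec.map (CommRingCat.ofHom (algebraMap B R')) ≫ hW.fromSpec, ?_, ?_, ?_⟩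
  · rw [Category.assoc, ← hφ, ← Spec.map_comp, IsFinite.SpecMap_iff]
    change (algebraMap R R').Finite
    exact RingHom.finite_algebraMap.mpr hfin'
  · have h1 : Etale (Spec.map (CommRingCat.ofHom (algebraMap B R'))) := by
      rw [HasRingHomProperty.Spec_iff (P := @Etale.{u})]
      exact RingHom.etale_algebraMap.mpr het
    rw [Category.assoc]
    infer_instance
  · rw [Scheme.Hom.comp_apply, ← hqv]
    congr 1
    apply PrimeSpectrum.ext
    exact hmk _ (IsLocalRing.maximalIdeal.isMaximal R')

/-- Over a henselian local ring a quasi-isotrivial twisted constant scheme is split by a finite étale local cover. -/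
theorem exists_chart {R : Type u} [CommRing R] [HenselianLocalRing R] (X : Over (Spec (CommRingCat.of R)))
    (hX : IsTwConst Topology.etale X) :
    ∃ (R' : Type u) (_ : CommRing R') (_ : IsLocalRing R') (g : Spec (CommRingCat.of R') ⟶ Spec (CommRingCat.of R))
      (_ : IsFinite g) (_ : Etale g) (M : Type u), g (closedPoint R') = closedPoint R ∧
        Nonempty (Red.bc g X ≅ const (Spec (CommRingCat.of R')) M) := by
  obtain ⟨V, f, hf, ⟨v, hv⟩, M, ⟨e⟩⟩ := hX (closedPoint R)
  obtain ⟨R', i1, i2, g, h1, h2, h3⟩ := exists_local f v hv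
  refine ⟨R', i1, i2, g ≫ f, h1, h2, M, ?_, ⟨(Over.pullbackComp g f).app X ≪≫ (Over.pullback g).mapIso e ≪≫ bcConst M g⟩⟩
  rw [Scheme.Hom.comp_apply, h3, hv]

/-- The fibres of an étale morphism are discrete. -/
theorem eq_of_specializes {X S : Scheme.{u}} (f : X ⟶ S) [Etale f] {x y : X} (h : x ⤳ y) (hxy : f x = f y) : x = y := by
  have := S2787.locallyQuasiFinite_of_etale f
  have h1 := f.isDiscrete_preimage_singleton (f y)
  exact h1.eq_of_specializes h hxy rfl

/-- The structure of a quasi-isotrivial twisted constant scheme over a henselian local ring. -/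
structure Data {R : Type u} [CommRing R] [HenselianLocalRing R] (X : Over (Spec (CommRingCat.of R))) where
  /-- The local ring of the cover. -/
  R' : Type u
  [ring : CommRing R']
  [local' : IsLocalRing R']
  /-- The cover. -/
  g : Spec (CommRingCat.of R') ⟶ Spec (CommRingCat.of R)
  [fin : IsFinite g]
  [et : Etale g]
  /-- The type. -/
  M : Type u
  g_pt : g (closedPoint R') = closedPoint R
  /-- The isomorphism. -/
  e : Red.bc g X ≅ const (Spec (CommRingCat.of R')) M

attribute [instance] Data.ring Data.local' Data.fin Data.et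

variable {R : Type u} [CommRing R] [HenselianLocalRing R] (X : Over (Spec (CommRingCat.of R)))
  (hX : IsTwConst Topology.etale X)

include hX in
theorem exists_point (x : X.left) (hx : X.hom x = closedPoint R) (D : Data X) :
    ∃ t : Spec (CommRingCat.of D.R') ⟶ X.left, t ≫ X.hom = D.g ∧ IsFinite t ∧ Etale t ∧ t (closedPoint D.R') = x := by
  have hsep := TwIrr.isSeparated_of_isTwConst X hX
  have het := TwConstClopen.etale_of_isTwConst X hX
  obtain ⟨-, q, -, -, hq⟩ := TwConstFin.exists_bc_of_iso D.g D.e (𝟙 X.left)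
  obtain ⟨z, hz1, hz2⟩ := Scheme.exists_preimage_of_isPullback hq x (closedPoint D.R') (hx.trans D.g_pt.symm)
  obtain ⟨m, t, rfl⟩ := exists_ι D.M z
  have ht : t = closedPoint D.R' := by
    rw [← Scheme.Hom.comp_apply, Sigma.ι_desc] at hz2
    exact hz2
  have hqe : Etale q := MorphismProperty.of_isPullback (P := @Etale) hq.flip inferInstance
  have h1 : (Sigma.ι (fun _ : D.M => Spec (CommRingCat.of D.R')) m ≫ q) ≫ X.hom = D.g := by
    rw [Category.assoc, hq.w, Sigma.ι_desc_assoc, Category.id_comp]
  refine ⟨Sigma.ι (fun _ : D.M => Spec (CommRingCat.of D.R')) m ≫ q, h1, ?_, inferInstance, ?_⟩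
  · have : IsFinite ((Sigma.ι (fun _ : D.M => Spec (CommRingCat.of D.R')) m ≫ q) ≫ X.hom) := by
      rw [h1]; infer_instance
    exact IsFinite.of_comp _ X.hom
  · rw [← ht, Scheme.Hom.comp_apply, hz1]

include hX in
theorem isClopen_generizations (x : X.left) (hx : X.hom x = closedPoint R) (D : Data X) :
    IsClopen {y : X.left | y ⤳ x} := by
  obtain ⟨t, ht, h1, h2, h3⟩ := exists_point X hX x hx D
  have h4 : {y : X.left | y ⤳ x} = Set.range t := by
    apply Set.Subset.antisymm
    · intro y hy
      exact (hy : y ⤳ x).mem_open t.isOpenMap.isOpen_range ⟨_, h3⟩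
    · rintro _ ⟨p, rfl⟩
      rw [← h3]
      exact (IsLocalRing.specializes_closedPoint p).map t.continuous
  rw [h4]
  exact ⟨t.isClosedMap.isClosed_range, t.isOpenMap.isOpen_range⟩

include hX in
theorem isFinite_generizations (x : X.left) (hx : X.hom x = closedPoint R) (D : Data X) (U : X.left.Opens)
    (hU : ∀ y : X.left, y ∈ U ↔ y ⤳ x) : IsFinite (U.ι ≫ X.hom) := by
  have het := TwConstClopen.etale_of_isTwConst X hX
  have hUs : (U : Set X.left) = {y | y ⤳ x} := Set.ext fun y => hU y
  have hcl : IsClosedImmersion U.ι := by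
    refine IsClosedImmersion.of_isPreimmersion U.ι ?_
    rw [Scheme.Opens.range_ι, hUs]
    exact (isClopen_generizations X hX x hx D).1
  have hdesc := Groth.Agent.S0084.result.{u}
  refine Groth.Agent.Sga3B.RepDescent.of_etale_cover (P := @IsFinite.{u}) (U.ι ≫ X.hom) fun s => ?_
  refine ⟨_, D.g, inferInstance, ?_, ?_⟩
  · have h1 : IsOpen (Set.range D.g) := D.g.isOpenMap.isOpen_range
    exact (IsLocalRing.specializes_closedPoint s).mem_open h1 ⟨_, D.g_pt⟩
  obtain ⟨z', q, h1, h2, h3⟩ := TwConstFin.exists_bc_of_iso D.g D.e U.ι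
  have h4 : IsClosedImmersion z' := MorphismProperty.of_isPullback (P := @IsClosedImmersion) h2 inferInstance
  have h5 : IsOpenImmersion z' := MorphismProperty.of_isPullback (P := @IsOpenImmersion) h2 inferInstance
  have hpre : PreconnectedSpace (Spec (CommRingCat.of D.R')) := preconnectedSpace_spec _
  have h6 : IsCompact ((z' ≫ Sigma.desc fun _ : D.M => 𝟙 (Spec (CommRingCat.of D.R'))).base ⁻¹'
      {closedPoint D.R'}) := by
    rw [h1]
    refine FibreCompact.isCompact_fibre_of_isPullback (IsPullback.of_hasPullback (U.ι ≫ X.hom) D.g)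
      (closedPoint D.R') ?_
    refine Set.Finite.isCompact ((Set.subsingleton_of_forall_eq (⟨x, (hU x).mpr specializes_rfl⟩ :
      (U : Scheme.{u})) ?_).finite)
    rintro ⟨y, hy⟩ hy'
    have h3 : X.hom y = D.g (closedPoint D.R') := hy'
    have h4 : y ⤳ x := (hU y).mp hy
    exact Subtype.ext (eq_of_specializes X.hom h4 (by rw [h3, hx, D.g_pt]))
  have h7 := TwConstClopen.isFinite_of_isClopen z' _ h6
  rw [h1] at h7
  exact h7

include hX in
/-- The local components. -/
theorem main_components (x : X.left) (hx : X.hom x = closedPoint R) (D : Data X) :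
    IsOpenImmersion (X.left.fromSpecStalk x) ∧ IsClosedImmersion (X.left.fromSpecStalk x) ∧
      IsFinite (X.left.fromSpecStalk x ≫ X.hom) ∧ Etale (X.left.fromSpecStalk x ≫ X.hom) ∧
      Surjective (X.left.fromSpecStalk x ≫ X.hom) := by
  have het := TwConstClopen.etale_of_isTwConst X hX
  have hcl := isClopen_generizations X hX x hx D
  let U : X.left.Opens := ⟨{y | y ⤳ x}, hcl.2⟩
  have hU : ∀ y : X.left, y ∈ U ↔ y ⤳ x := fun y => Iff.rfl
  have hfin := isFinite_generizations X hX x hx D U hU
  have haff : IsAffineOpen U := isAffine_of_isAffineHom (U.ι ≫ X.hom)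
  have h1 := isOpenImmersion_fromSpecStalk x U haff hU
  have h2 : IsClosedImmersion (X.left.fromSpecStalk x) := by
    refine IsClosedImmersion.of_isPreimmersion _ ?_
    rw [Scheme.range_fromSpecStalk]
    exact hcl.1
  have h3 : IsFinite (X.left.fromSpecStalk x ≫ X.hom) := by
    have h4 : IsClosedImmersion ((U.fromSpecStalkOfMem x (specializes_rfl : x ⤳ x)) ≫ U.ι) := by
      rw [Scheme.Opens.fromSpecStalkOfMem_ι]; exact h2
    have h5 : IsClosedImmersion (U.fromSpecStalkOfMem x (specializes_rfl : x ⤳ x)) :=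
      IsClosedImmersion.of_comp _ U.ι
    rw [← Scheme.Opens.fromSpecStalkOfMem_ι U x (specializes_rfl : x ⤳ x), Category.assoc]
    infer_instance
  refine ⟨h1, h2, h3, inferInstance, ⟨fun s => ?_⟩⟩
  have h4 : IsOpen (Set.range (X.left.fromSpecStalk x ≫ X.hom)) :=
    (X.left.fromSpecStalk x ≫ X.hom).isOpenMap.isOpen_range
  refine (IsLocalRing.specializes_closedPoint s).mem_open h4 ⟨closedPoint _, ?_⟩
  rw [Scheme.Hom.comp_apply, Scheme.fromSpecStalk_closedPoint, hx]

include hX in
/-- Every point is in exactly one component. -/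
theorem main_unique (D : Data X) (y : X.left) : ∃! x : X.left, X.hom x = closedPoint R ∧ y ⤳ x := by
  have het := TwConstClopen.etale_of_isTwConst X hX
  obtain ⟨-, q, -, -, hq⟩ := TwConstFin.exists_bc_of_iso D.g D.e (𝟙 X.left)
  have hgs : Surjective D.g := by
    refine ⟨fun s => ?_⟩
    have h1 : IsOpen (Set.range D.g) := D.g.isOpenMap.isOpen_range
    exact (IsLocalRing.specializes_closedPoint s).mem_open h1 ⟨_, D.g_pt⟩
  obtain ⟨t, ht⟩ := hgs.surj (X.hom y)
  obtain ⟨z, hz1, hz2⟩ := Scheme.exists_preimage_of_isPullback hq y t ht.symm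
  obtain ⟨m, t', rfl⟩ := exists_ι D.M z
  have h1 : (Sigma.ι (fun _ : D.M => Spec (CommRingCat.of D.R')) m ≫ q) ≫ X.hom = D.g := by
    rw [Category.assoc, hq.w, Sigma.ι_desc_assoc, Category.id_comp]
  refine ⟨(Sigma.ι (fun _ : D.M => Spec (CommRingCat.of D.R')) m ≫ q) (closedPoint D.R'), ⟨?_, ?_⟩, ?_⟩
  · rw [← Scheme.Hom.comp_apply, h1, D.g_pt]
  · rw [← hz1, ← Scheme.Hom.comp_apply]
    exact (IsLocalRing.specializes_closedPoint t').map
      (Sigma.ι (fun _ : D.M => Spec (CommRingCat.of D.R')) m ≫ q).continuous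
  · rintro x' ⟨hx1, hx2⟩
    have hx3 : X.hom ((Sigma.ι (fun _ : D.M => Spec (CommRingCat.of D.R')) m ≫ q) (closedPoint D.R')) =
        closedPoint R := by
      rw [← Scheme.Hom.comp_apply, h1, D.g_pt]
    have hy : y ⤳ (Sigma.ι (fun _ : D.M => Spec (CommRingCat.of D.R')) m ≫ q) (closedPoint D.R') := by
      rw [← hz1, ← Scheme.Hom.comp_apply]
      exact (IsLocalRing.specializes_closedPoint t').map
        (Sigma.ι (fun _ : D.M => Spec (CommRingCat.of D.R')) m ≫ q).continuous
    have hcl := isClopen_generizations X hX _ hx3 D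
    have h5 : x' ⤳ (Sigma.ι (fun _ : D.M => Spec (CommRingCat.of D.R')) m ≫ q) (closedPoint D.R') :=
      hx2.mem_closed hcl.1 hy
    exact eq_of_specializes X.hom h5 (hx1.trans hx3.symm)

include hX in
/-- Extension of sections. -/
theorem exists_section (D : Data X) (τ : Spec (CommRingCat.of (IsLocalRing.ResidueField R)) ⟶ X.left)
    (hτ : τ ≫ X.hom = Spec.map (CommRingCat.ofHom (IsLocalRing.residue R))) :
    ∃ σ : Spec (CommRingCat.of R) ⟶ X.left, σ ≫ X.hom = 𝟙 _ ∧
      Spec.map (CommRingCat.ofHom (IsLocalRing.residue R)) ≫ σ = τ := by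
  have het := TwConstClopen.etale_of_isTwConst X hX
  have hsurj : Function.Surjective (CommRingCat.ofHom (IsLocalRing.residue R)) := IsLocalRing.residue_surjective
  have hclim : IsClosedImmersion (Spec.map (CommRingCat.ofHom (IsLocalRing.residue R))) :=
    IsClosedImmersion.spec_of_surjective _ hsurj
  have hpt : Spec.map (CommRingCat.ofHom (IsLocalRing.residue R)) (closedPoint (ResidueField R)) = closedPoint R := by
    apply PrimeSpectrum.ext
    change (IsLocalRing.maximalIdeal (ResidueField R)).comap (IsLocalRing.residue R) = maximalIdeal R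
    rw [IsLocalRing.maximalIdeal_eq_bot]
    exact IsLocalRing.ker_residue
  obtain ⟨e, he⟩ := TwVal.exists_iso_fac (ResidueField R) (Spec.map (CommRingCat.ofHom (IsLocalRing.residue R))) hpt
  let x := τ (closedPoint (ResidueField R))
  have hx : X.hom x = closedPoint R := by
    change X.hom (τ (closedPoint (ResidueField R))) = closedPoint R
    rw [← Scheme.Hom.comp_apply, hτ, hpt]
  obtain ⟨h1, h2, h3, h4, h5⟩ := main_components X hX x hx D
  have hrange : Set.range τ ⊆ Set.range (X.left.fromSpecStalk x) := by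
    rintro _ ⟨p, rfl⟩
    have : p = closedPoint (ResidueField R) := Subsingleton.elim _ _
    rw [this]
    exact ⟨_, Scheme.fromSpecStalk_closedPoint⟩
  let τ' : Spec (CommRingCat.of (IsLocalRing.ResidueField R)) ⟶ Spec (X.left.presheaf.stalk x) :=
    IsOpenImmersion.lift (X.left.fromSpecStalk x) τ hrange
  have hτ' : τ' ≫ X.left.fromSpecStalk x = τ := IsOpenImmersion.lift_fac _ _ _
  have hpre := preconnectedSpace_spec R
  have hiso : IsIso (X.left.fromSpecStalk x ≫ X.hom) := by
    refine TwIrr.isIso_of_point (X.left.fromSpecStalk x ≫ X.hom) (closedPoint R) (e.inv ≫ τ') ?_ ?_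
    · rw [Category.assoc, reassoc_of% hτ', hτ, ← he, Iso.inv_hom_id_assoc]
    · intro u hu
      apply (X.left.fromSpecStalk x).isClosedEmbedding.injective
      have h6 : X.left.fromSpecStalk x u ⤳ x := by
        have : X.left.fromSpecStalk x u ∈ Set.range (X.left.fromSpecStalk x) := ⟨u, rfl⟩
        rwa [Scheme.range_fromSpecStalk] at this
      have h7 : X.left.fromSpecStalk x u = x := eq_of_specializes X.hom h6 (by
        rw [← Scheme.Hom.comp_apply, hu, hx])
      rw [h7, ← Scheme.Hom.comp_apply, Category.assoc, hτ', Scheme.Hom.comp_apply]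
      exact congrArg τ (Subsingleton.elim _ _)
  refine ⟨inv (X.left.fromSpecStalk x ≫ X.hom) ≫ X.left.fromSpecStalk x, by simp, ?_⟩
  have h8 : Spec.map (CommRingCat.ofHom (IsLocalRing.residue R)) = τ' ≫ X.left.fromSpecStalk x ≫ X.hom := by
    rw [← Category.assoc, hτ', hτ]
  rw [h8, Category.assoc, IsIso.hom_inv_id_assoc, hτ']

end K983.TwHens
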