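import Groth.Agent.TwC.K983.TorIso
import Groth.Agent.Sga3B.MT.Final824
import Groth.Agent.Sga3B.SplitFin885
import Groth.Agent.Sga3B.RootFinal136
import Groth.Agent.Sga3B.MaxTorBc636
import Groth.Agent.Sga3B.RedBcAny636
import Groth.Agent.Sga3B.SplitBc264
import Groth.Agent.Sga3B.SplitIso848
import Groth.Agent.Flat2G.EtUnibranch
import Mathlib.RingTheory.PicardGroup

/-!
# Reductive groups over local rings which are henselian or have geometrically unibranch local rings are isotrivial
-/

set_option autoImplicit false

universe u

open CategoryTheory MonoidalCategory CartesianMonoidalCategory MonObj GrpObj AlgebraicGeometry Limits Opposite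

namespace K983.RedIso

open Groth.Agent.Sga3B TwC

/-- Maximal tori over local rings. -/
theorem exists_maximalTorus (O : Type u) [CommRing O] [IsLocalRing O]
    (G : Over (Spec (CommRingCat.of O))) [GrpObj G] (hG : Red.IsReductive G) :
    ∃ (T : Over (Spec (CommRingCat.of O))) (_ : GrpObj T) (i : T ⟶ G), Red.IsMaximalTorus i := by
  have hR : {m : Ideal O | m.IsMaximal}.Finite :=
    (Set.finite_singleton (IsLocalRing.maximalIdeal O)).subset fun m hm => IsLocalRing.eq_maximalIdeal hm
  obtain ⟨T, i1, i, hT, -⟩ := MT.exists_maximalTorus_semilocal hR hG (fun s => SplitFin885.splitNear G hG s)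
  exact ⟨T, i1, i, hT⟩

/-- Finite algebras over local rings are semilocal. -/
theorem finite_maximalSpectrum {O R : Type u} [CommRing O] [IsLocalRing O] [CommRing R] (φ : O →+* R)
    (hφ : φ.Finite) : Finite (MaximalSpectrum R) := by
  let _ : Algebra O R := φ.toAlgebra
  have : Module.Finite O R := hφ
  have hfib : ((IsLocalRing.maximalIdeal O).primesOver R).Finite := Algebra.QuasiFinite.finite_primesOver _
  have h1 : Finite ((IsLocalRing.maximalIdeal O).primesOver R) := hfib
  refine Finite.of_injective (β := (IsLocalRing.maximalIdeal O).primesOver R) (fun m => ⟨m.asIdeal, ?_⟩) ?_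
  · have := m.isMaximal
    have h2 : (m.asIdeal.under O).IsMaximal := Ideal.isMaximal_comap_of_isIntegral_of_isMaximal m.asIdeal
    exact ⟨m.isMaximal.isPrime, ⟨(IsLocalRing.eq_maximalIdeal h2).symm⟩⟩
  · intro m m' h
    exact MaximalSpectrum.ext (congrArg Subtype.val h)

/-- If a maximal torus is split by a connected finite étale cover, then the group is isotrivial. -/
theorem isSplitLocally {O : Type u} [CommRing O] [IsLocalRing O]
    {G T : Over (Spec (CommRingCat.of O))} [GrpObj G] [GrpObj T] (hG : Red.IsReductive G) (i : T ⟶ G)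
    (hi : Red.IsMaximalTorus i) {S' : Scheme.{u}} [ConnectedSpace S'] (f : S' ⟶ Spec (CommRingCat.of O))
    [IsFinite f] [Etale f] [Surjective f] (r : ℕ) (h : Red.IsSplitTorusWith (Fin r → ℤ) (Red.bc f T)) :
    IsSplitLocally Topology.finiteEtale G := by
  have haff : IsAffine S' := isAffine_of_isAffineHom f
  let R : Type u := Γ(S', ⊤)
  let e : Spec (CommRingCat.of R) ≅ S' := S'.isoSpec.symm
  let g : Spec (CommRingCat.of R) ⟶ Spec (CommRingCat.of O) := e.hom ≫ f
  have hgf : IsFinite g := inferInstance
  have hge : Etale g := inferInstance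
  have hgs : Surjective g := inferInstance
  have hconn : ConnectedSpace (PrimeSpectrum R) := e.inv.homeomorph.surjective.connectedSpace e.inv.homeomorph.continuous
  have hnt : Nontrivial R := by
    obtain ⟨x⟩ : Nonempty (PrimeSpectrum R) := inferInstance
    exact x.nontrivial
  have hms : Finite (MaximalSpectrum R) := by
    obtain ⟨φ, hφ⟩ := Spec.map_surjective g
    have h1 : IsFinite (Spec.map φ) := by rw [hφ]; exact hgf
    rw [IsFinite.SpecMap_iff] at h1
    exact finite_maximalSpectrum φ.hom h1
  have hpic : Subsingleton (CommRing.Pic R) := inferInstance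
  have hT' : Red.IsSplitTorusWith (Fin r → ℤ) (Red.bc g T) :=
    TorusBc.isSplitTorusWith_of_iso (BcIso.bcCompIso e.hom f T).symm (TorusAlgClosed.isSplitTorusWith_bc e.hom h)
  obtain ⟨D, -⟩ := RootFinal136.exists_splitRed (RedBcAny636.isReductive_bc g hG) ((Over.pullback g).map i)
    (MaxTorBc636.isMaximalTorus_bc g hG hi) hT'
  refine ⟨_, g, hgf, hge, hgs, fun s' => ⟨⊤, trivial, isClosed_univ, ?_⟩⟩
  exact ⟨SplitIso848.splitOfIso (BcIso.bcCompIso _ g G).symm (SplitBc264.splitRedBc _ D
    (RedBcAny636.isReductive_bc _ D.reductive) (MaxTorBc636.isMaximalTorus_bc _ D.reductive D.maximalTorus))⟩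

/-- A local ring whose local ring at the closed point is unibranch has irreducible spectrum. -/
theorem irreducibleSpace (O : Type u) [CommRing O] [IsLocalRing O]
    (h : CAlg2.IsGeomUnibranch (Localization.AtPrime (IsLocalRing.closedPoint O).asIdeal)) :
    IrreducibleSpace (PrimeSpectrum O) := by
  rw [PrimeSpectrum.irreducibleSpace_iff_isPrime_nilradical]
  have h1 : (nilradical (Localization.AtPrime (IsLocalRing.closedPoint O).asIdeal)).IsPrime :=
    (Ideal.Quotient.isDomain_iff_prime _).mp h.1.1
  have hinj : Function.Injective (algebraMap O (Localization.AtPrime (IsLocalRing.closedPoint O).asIdeal)) := by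
    refine IsLocalization.injective _ (M := (IsLocalRing.closedPoint O).asIdeal.primeCompl) fun x hx => ?_
    have hx' : IsUnit x := by
      by_contra h2
      exact hx ((IsLocalRing.mem_maximalIdeal x).mpr h2)
    exact hx'.mem_nonZeroDivisors
  have h2 : nilradical O = (nilradical (Localization.AtPrime (IsLocalRing.closedPoint O).asIdeal)).comap
      (algebraMap O (Localization.AtPrime (IsLocalRing.closedPoint O).asIdeal)) := by
    ext x
    rw [Ideal.mem_comap, mem_nilradical, mem_nilradical, IsNilpotent.map_iff hinj]
  rw [h2]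
  exact Ideal.comap_isPrime _ _

/-- The main theorem. -/
theorem main (O : Type u) [CommRing O] [IsLocalRing O]
    (hO : HenselianLocalRing O ∨ ∀ p : PrimeSpectrum O, CAlg2.IsGeomUnibranch (Localization.AtPrime p.asIdeal))
    (G : Over (Spec (CommRingCat.of O))) [GrpObj G] (hG : Red.IsReductive G) :
    IsSplitLocally Topology.finiteEtale G := by
  obtain ⟨T, _, i, hi⟩ := exists_maximalTorus O G hG
  rcases hO with hO | hO
  · obtain ⟨R', _, _, g, r, hfin, het, hg, hsp⟩ := TorIso.exists_finite_split_hens T hi.2.2.1
    have hsurj : Surjective g := by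
      refine ⟨fun s => ?_⟩
      have h1 : IsOpen (Set.range g) := g.isOpenMap.isOpen_range
      have h2 : IsLocalRing.closedPoint O ∈ Set.range g := ⟨_, hg⟩
      exact h1.stableUnderGeneralization (IsLocalRing.specializes_closedPoint s) h2
    have hpre := TwHens.preconnectedSpace_spec R'
    have hconn : ConnectedSpace (Spec (CommRingCat.of R')) := { toPreconnectedSpace := hpre, toNonempty := inferInstance }
    exact isSplitLocally hG i hi g r hsp
  · have hstalk : ∀ s : ↥(Spec (CommRingCat.of O)),
        CAlg2.IsGeomUnibranch ((Spec (CommRingCat.of O)).presheaf.stalk s) := by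
      intro s
      let p : PrimeSpectrum O := s
      let _ : Algebra O ((Spec (CommRingCat.of O)).presheaf.stalk s) := StructureSheaf.stalkAlgebra O p
      have h2 : IsLocalization.AtPrime ((Spec (CommRingCat.of O)).presheaf.stalk s) p.asIdeal :=
        StructureSheaf.IsLocalization.to_stalk O p
      exact Groth.Agent.Flat2G.EtUnibranch.isGeomUnibranch_of_ringEquiv
        (IsLocalization.algEquiv p.asIdeal.primeCompl (Localization.AtPrime p.asIdeal)
          ((Spec (CommRingCat.of O)).presheaf.stalk s)).toRingEquiv (hO p)
    have hirr : IrreducibleSpace (Spec (CommRingCat.of O)) := irreducibleSpace O (hO (IsLocalRing.closedPoint O))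
    obtain ⟨S', f, r, h1, h2, h3, h4, h5⟩ := TorIso.exists_finite_split hstalk T hi.2.2.1
    exact isSplitLocally hG i hi f r h5

end K983.RedIso
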