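import Groth.Agent.SGA3x.K6.HomDS
import Groth.Agent.SGA3x.K6.ConstAff
import Groth.Agent.Sga3B.PinTransport

/-!
# `Isom_{S-gr}(D(M), D(N))` is the constant scheme `Isom(N, M)_S`, for `M`, `N` finitely generated
-/

set_option autoImplicit false

universe u

open CategoryTheory MonoidalCategory CartesianMonoidalCategory MonObj GrpObj AlgebraicGeometry Limits Opposite

namespace K983.IsomDS

open Groth.Agent.Sga3B TwC K6.ConstRep K6.HomDS

section general

variable {S : Scheme.{u}} {G H : Over S} [GrpObj G] [GrpObj H]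

/-- The inverse of a family of isomorphisms is a family of homomorphisms. -/
theorem isHomFamily_inv {T : Over S} {φ : G ⊗ T ⟶ H} (h : AutFam.IsHomFamily G H φ) {ψ : H ⊗ T ⟶ G}
    (h1 : ∀ (X : Over S) (g : X ⟶ G) (t : X ⟶ T), lift (lift g t ≫ φ) t ≫ ψ = g)
    (h2 : ∀ (X : Over S) (g' : X ⟶ H) (t : X ⟶ T), lift (lift g' t ≫ ψ) t ≫ φ = g') :
    AutFam.IsHomFamily H G ψ := by
  intro X g₁ g₂ t
  have h3 := h X (lift g₁ t ≫ ψ) (lift g₂ t ≫ ψ) t
  rw [h2, h2] at h3
  rw [← h3, h1]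

/-- Transport of a representing object of `Isom_{S-gr}` along isomorphisms of groups. -/
theorem exists_representsIsom_of_iso {G' H' : Over S} [GrpObj G'] [GrpObj H']
    (e : Grp.mk G ≅ Grp.mk G') (e' : Grp.mk H ≅ Grp.mk H') {A : Over S} {υ : G' ⊗ A ⟶ H'}
    (h : AutFam.RepresentsIsom G' H' A υ) : ∃ υ' : G ⊗ A ⟶ H, AutFam.RepresentsIsom G H A υ' := by
  let a : G ≅ G' := (Grp.forget _).mapIso e
  let b : H ≅ H' := (Grp.forget _).mapIso e'
  have ha : IsMonHom a.hom := e.hom.hom.isMonHom_hom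
  have hb : IsMonHom b.hom := e'.hom.hom.isMonHom_hom
  have hinv : IsMonHom a.inv := inferInstance
  have hinv' : IsMonHom b.inv := inferInstance
  have hs : IsMonHom a.symm.hom := hinv
  have hs' : IsMonHom b.symm.hom := hinv'
  have aux : ∀ {K K' L L' : Over S} [GrpObj K] [GrpObj K'] [GrpObj L] [GrpObj L'] (a : K ≅ K') [IsMonHom a.hom]
      (b : L' ≅ L) [IsMonHom b.hom] (T : Over S) (φ : K' ⊗ T ⟶ L'), AutFam.IsIsoFamily K' L' φ →
      AutFam.IsIsoFamily K L ((a.hom ▷ T) ≫ φ ≫ b.hom) := by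
    intro K K' L L' _ _ _ _ a _ b _ T φ hφ
    obtain ⟨h0, ψ, h1, h2⟩ := hφ
    have e1 : ∀ (X : Over S) (g : X ⟶ K) (t : X ⟶ T),
        lift g t ≫ (a.hom ▷ T) ≫ φ ≫ b.hom = (lift (g ≫ a.hom) t ≫ φ) ≫ b.hom := by
      intro X g t
      rw [← Category.assoc, lift_whiskerRight, Category.assoc]
    have e2 : ∀ (X : Over S) (g : X ⟶ L) (t : X ⟶ T),
        lift g t ≫ (b.inv ▷ T) ≫ ψ ≫ a.inv = (lift (g ≫ b.inv) t ≫ ψ) ≫ a.inv := by
      intro X g t
      rw [← Category.assoc, lift_whiskerRight, Category.assoc]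
    refine ⟨?_, (b.inv ▷ T) ≫ ψ ≫ a.inv, ?_, ?_⟩
    · intro X g₁ g₂ t
      rw [e1, e1, e1, MonObj.mul_comp, h0, MonObj.mul_comp]
    · intro X g t
      rw [e1, e2, Category.assoc (lift _ _ ≫ φ), Iso.hom_inv_id, Category.comp_id, h1, Category.assoc,
        Iso.hom_inv_id, Category.comp_id]
    · intro X g t
      rw [e2, e1, Category.assoc (lift _ _ ≫ ψ), Iso.inv_hom_id, Category.comp_id, h2, Category.assoc,
        Iso.inv_hom_id, Category.comp_id]
  refine ⟨(a.hom ▷ A) ≫ υ ≫ b.inv, aux a b.symm A υ h.1, fun T φ hφ => ?_⟩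
  obtain ⟨c, hc, hc'⟩ := h.2 T ((a.inv ▷ T) ≫ φ ≫ b.hom) (aux a.symm b T φ hφ)
  refine ⟨c, ?_, fun d hd => hc' d ?_⟩
  · show G ◁ c ≫ (a.hom ▷ A) ≫ υ ≫ b.inv = φ
    rw [← Category.assoc, whisker_exchange, Category.assoc, ← Category.assoc (G' ◁ c), hc]
    simp
  · rw [← hd]
    have h2 : G ◁ d ≫ (a.hom ▷ A) ≫ υ ≫ b.inv = (a.hom ▷ T) ≫ (G' ◁ d) ≫ υ ≫ b.inv := by
      rw [← Category.assoc, whisker_exchange, Category.assoc]
    rw [h2]
    simp

end general

variable {S : Scheme.{u}} {M N : Type} [AddCommGroup M] [AddCommGroup N]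

/-- The constant family of isomorphisms attached to an isomorphism `N ≃ M`. -/
theorem isIsoFamily_cfam (φ : N ≃+ M) (T : Over S) :
    AutFam.IsIsoFamily (Red.DS S M) (Red.DS S N) (cfam S φ.toAddMonoidHom T) := by
  have h1 : (φ.toAddMonoidHom.comp φ.symm.toAddMonoidHom) = AddMonoidHom.id M := by
    ext x; simp
  have h2 : (φ.symm.toAddMonoidHom.comp φ.toAddMonoidHom) = AddMonoidHom.id N := by
    ext x; simp
  refine ⟨isHomFamily_cfam _ T, cfam S φ.symm.toAddMonoidHom T, ?_, ?_⟩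
  · intro X g t
    rw [lift_cfam, lift_cfam, Category.assoc, PinTransport.DSmap_comp, h1, PinTransport.DSmap_id, Category.comp_id]
  · intro X g t
    rw [lift_cfam, lift_cfam, Category.assoc, PinTransport.DSmap_comp, h2, PinTransport.DSmap_id, Category.comp_id]

/-- Near every point of the parameter scheme a family of isomorphisms `D(M) → D(N)` comes from an isomorphism. -/
theorem exists_near_iso [Module.Finite ℤ N] [Module.Finite ℤ M] {S' : Scheme.{u}} (x : S' ⟶ S)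
    (a : Red.DS S M ⊗ Over.mk x ⟶ Red.DS S N) (ha : AutFam.IsIsoFamily (Red.DS S M) (Red.DS S N) a) (s : S') :
    ∃ U : S'.Opens, s ∈ U ∧ ∃ φ : N ≃+ M, ∀ (T : Over S) (q : T ⟶ Red.DS S M) (t : T ⟶ Over.mk x),
      Set.range t.left ⊆ (U : Set S') → lift q t ≫ a = q ≫ Red.DSmap S φ.toAddMonoidHom := by
  obtain ⟨h0, b, h1, h2⟩ := ha
  have hb := isHomFamily_inv h0 h1 h2
  obtain ⟨U, hU, φ, hφ⟩ := exists_near_family x a h0 s
  obtain ⟨V, hV, ψ, hψ⟩ := exists_near_family x b hb s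
  let W : S'.Opens := U ⊓ V
  let T : Over S := Over.mk (W.ι ≫ x)
  have hT : Nonempty T.left := ⟨(⟨s, hU, hV⟩ : W)⟩
  let t : T ⟶ Over.mk x := Over.homMk W.ι rfl
  have htU : Set.range t.left ⊆ (U : Set S') := by
    rintro _ ⟨z, rfl⟩
    exact z.2.1
  have htV : Set.range t.left ⊆ (V : Set S') := by
    rintro _ ⟨z, rfl⟩
    exact z.2.2
  have hrange : ∀ {X : Over S} (f : X ⟶ T) (Y : Set S'), Set.range t.left ⊆ Y → Set.range (f ≫ t).left ⊆ Y := by
    rintro X f Y hY _ ⟨z, rfl⟩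
    refine hY ⟨f.left z, ?_⟩
    rw [Over.comp_left, Scheme.Hom.comp_apply]
  have e1 : φ.comp ψ = AddMonoidHom.id M := by
    refine cfam_injective (S := S) hT ?_
    have h3 := h1 (Red.DS S M ⊗ T) (fst _ _) (snd _ _ ≫ t)
    rw [hφ _ _ _ (hrange _ _ htU), hψ _ _ _ (hrange _ _ htV), Category.assoc, PinTransport.DSmap_comp] at h3
    rw [cfam, cfam, h3, PinTransport.DSmap_id, Category.comp_id]
  have e2 : ψ.comp φ = AddMonoidHom.id N := by
    refine cfam_injective (S := S) hT ?_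
    have h3 := h2 (Red.DS S N ⊗ T) (fst _ _) (snd _ _ ≫ t)
    rw [hψ _ _ _ (hrange _ _ htV), hφ _ _ _ (hrange _ _ htU), Category.assoc, PinTransport.DSmap_comp] at h3
    rw [cfam, cfam, h3, PinTransport.DSmap_id, Category.comp_id]
  exact ⟨U, hU, AddMonoidHom.toAddEquiv φ ψ e2 e1, hφ⟩

/-- **`Isom_{S-gr}(D(M), D(N))` is represented by the constant scheme `Isom(N, M)_S`** for `M`, `N` finitely
generated. -/
theorem exists_representsIsom (S : Scheme.{u}) (M N : Type) [AddCommGroup M] [AddCommGroup N] [Module.Finite ℤ N]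
    [Module.Finite ℤ M] :
    ∃ υ : Red.DS S M ⊗ const S (N ≃+ M) ⟶ Red.DS S N,
      AutFam.RepresentsIsom (Red.DS S M) (Red.DS S N) (const S (N ≃+ M)) υ := by
  let F : (Over S)ᵒᵖ ⥤ Type u := RepDescent.isomF (Red.DS S M) (Red.DS S N)
  let ξ : ∀ (_ : N ≃+ M) (T : Over S), F.obj (op T) := fun φ T =>
    (⟨cfam S φ.toAddMonoidHom T, isIsoFamily_cfam φ T⟩ :
      {y : (RepDescent.famF (Red.DS S M) (Red.DS S N)).obj (op T) // RepDescent.isoP (Red.DS S M) (Red.DS S N) T y})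
  obtain ⟨r, hr⟩ := exists_representableBy (F := F) (RepDescent.isEtSheaf_isomF _ _) ξ
    (fun φ T T' f => Subtype.ext (whisker_cfam φ.toAddMonoidHom f)) (by
      intro T y t
      let y' : {y : (RepDescent.famF (Red.DS S M) (Red.DS S N)).obj (op T) //
        RepDescent.isoP (Red.DS S M) (Red.DS S N) T y} := y
      obtain ⟨U, hU, φ, hφ⟩ := exists_near_iso T.hom y'.1 y'.2 t
      refine ⟨U, φ, hU, Subtype.ext ?_⟩
      change (Red.DS S M ◁ inc T U) ≫ y'.1 = cfam S φ.toAddMonoidHom (opn T U)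
      have h1 : Red.DS S M ◁ inc T U = lift (fst (Red.DS S M) (opn T U)) (snd (Red.DS S M) (opn T U) ≫ inc T U) := by
        apply CartesianMonoidalCategory.hom_ext <;> simp
      rw [h1, cfam]
      refine hφ _ _ _ ?_
      rintro _ ⟨z, rfl⟩
      change ((snd (Red.DS S M) (opn T U)).left ≫ U.ι) z ∈ U
      rw [Scheme.Hom.comp_apply]
      exact ((snd (Red.DS S M) (opn T U)).left z).2) (by
      intro T i j hT hij
      have h := cfam_injective hT (congrArg Subtype.val hij)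
      exact AddEquiv.ext fun x => congr($h x))
  exact RepDescent.exists_representsIsom r

end K983.IsomDS
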