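import Groth.Agent.TwC.K983.IsomDS
import Groth.Agent.TwC.K983.TwIrr
import Groth.Agent.TwC.K983.TwHens
import Groth.Agent.Sga3B.TorusEtLoc920
import Groth.Agent.Sga3B.IsoFam

/-!
# Tori over geometrically unibranch or henselian local bases are isotrivial
-/

set_option autoImplicit false

universe u

open CategoryTheory MonoidalCategory CartesianMonoidalCategory MonObj GrpObj AlgebraicGeometry Limits Opposite

namespace K983.TorIso

open Groth.Agent.Sga3B TwC K6.Const K6.ConstAff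

variable {S : Scheme.{u}}

/-- For a torus `T` and a finitely generated group `N`, `Isom_{S-gr}(T, D(N))` is represented by a quasi-isotrivial
twisted constant scheme. -/
theorem exists_isom (T : Over S) [GrpObj T] (hT : Red.IsTorus T) (N : Type) [AddCommGroup N] [Module.Finite ℤ N] :
    ∃ (A : Over S) (υ : T ⊗ A ⟶ Red.DS S N), AutFam.RepresentsIsom T (Red.DS S N) A υ ∧
      IsTwConst Topology.etale A := by
  have key : ∀ s : S, ∃ (B : Type u) (_ : CommRing B) (v : Spec (CommRingCat.of B) ⟶ S) (r : ℕ), Etale v ∧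
      s ∈ Set.range v ∧ ∃ υ : Red.bc v T ⊗ const (Spec (CommRingCat.of B)) (N ≃+ (Fin r → ℤ)) ⟶
        Red.bc v (Red.DS S N), AutFam.RepresentsIsom (Red.bc v T) (Red.bc v (Red.DS S N)) _ υ := by
    intro s
    obtain ⟨B, _, v, r, hv, hs, ⟨e⟩⟩ := TorusEtLoc920.exists_etale_split T hT s
    obtain ⟨υ, hυ⟩ := IsomDS.exists_representsIsom (Spec (CommRingCat.of B)) (Fin r → ℤ) N
    obtain ⟨υ', hυ'⟩ := IsomDS.exists_representsIsom_of_iso e (TorusAlgClosed.dsBcIso v N) hυ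
    exact ⟨B, inferInstance, v, r, hv, hs, υ', hυ'⟩
  obtain ⟨A, υ, hA⟩ := RepDescent.exists_representsIsom_of_etale T (Red.DS S N) (by
    intro s
    obtain ⟨B, _, v, r, hv, hs, υ, hυ⟩ := key s
    exact ⟨_, v, hv, hs, _, υ, hυ, fun U hU => isQuasiAffine_const _ U hU⟩)
  refine ⟨A, υ, hA, ?_⟩
  intro s
  obtain ⟨B, _, v, r, hv, hs, υ', hυ'⟩ := key s
  obtain ⟨υ'', h''⟩ := RepDescent.representsIsom_bc hA v
  obtain ⟨e⟩ := RepDescent.nonempty_iso_of_representsIsom h'' hυ'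
  exact ⟨_, v, hv, hs, Shrink.{u} (N ≃+ (Fin r → ℤ)), ⟨e ≪≫ reindex _ (equivShrink _)⟩⟩

/-- **Tori over irreducible geometrically unibranch schemes are isotrivial.** -/
theorem exists_finite_split [IrreducibleSpace S] (hS : ∀ s : S, CAlg2.IsGeomUnibranch (S.presheaf.stalk s))
    (T : Over S) [GrpObj T] (hT : Red.IsTorus T) :
    ∃ (S' : Scheme.{u}) (f : S' ⟶ S) (r : ℕ), IrreducibleSpace S' ∧ IsFinite f ∧ Etale f ∧ Surjective f ∧
      Red.IsSplitTorusWith (Fin r → ℤ) (Red.bc f T) := by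
  obtain ⟨B, _, v, r, hv, ⟨y, hy⟩, ⟨e⟩⟩ := TorusEtLoc920.exists_etale_split T hT (genericPoint S)
  obtain ⟨A, υ, hA, hAt⟩ := exists_isom T hT (Fin r → ℤ)
  obtain ⟨a, ha⟩ := IsoFam.exists_point_of_iso hA v ⟨e ≪≫ (TorusAlgClosed.dsBcIso v _).symm⟩
  have hl : A.hom (a y) = genericPoint S := by rw [← Scheme.Hom.comp_apply, ha, hy]
  obtain ⟨U, hU, hUcl, hfin, het, hsurj⟩ := TwIrr.exists_opens hS A hAt (a y) hl
  have hirr : IrreducibleSpace (U : Scheme.{u}) := isIrreducible_iff_irreducibleSpace.mp (by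
    rw [hU]; exact isIrreducible_singleton.closure)
  obtain ⟨e'⟩ := IsoFam.nonempty_iso_of_point hA (U.ι ≫ A.hom) U.ι rfl
  exact ⟨U, U.ι ≫ A.hom, r, hirr, hfin, het, hsurj, ⟨e' ≪≫ TorusAlgClosed.dsBcIso _ _⟩⟩

open IsLocalRing in
/-- **Tori over henselian local rings are isotrivial.** -/
theorem exists_finite_split_hens {R : Type u} [CommRing R] [HenselianLocalRing R]
    (T : Over (Spec (CommRingCat.of R))) [GrpObj T] (hT : Red.IsTorus T) :
    ∃ (R' : Type u) (_ : CommRing R') (_ : IsLocalRing R') (g : Spec (CommRingCat.of R') ⟶ Spec (CommRingCat.of R))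
      (r : ℕ), IsFinite g ∧ Etale g ∧ g (closedPoint R') = closedPoint R ∧
        Red.IsSplitTorusWith (Fin r → ℤ) (Red.bc g T) := by
  obtain ⟨B, _, f, r, hf, ⟨v, hv⟩, h⟩ := TorusEtLoc920.exists_etale_split T hT (closedPoint R)
  obtain ⟨R', i1, i2, g, h1, h2, h3⟩ := TwHens.exists_local f v hv
  refine ⟨R', i1, i2, g ≫ f, r, h1, h2, ?_, ?_⟩
  · rw [Scheme.Hom.comp_apply, h3, hv]
  · exact TorusBc.isSplitTorusWith_of_iso (BcIso.bcCompIso g f T).symm (TorusAlgClosed.isSplitTorusWith_bc g h)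

end K983.TorIso
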